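import Cfsg.Agent.F26.ModT
import Cfsg.Agent.F26.ModY2
import Cfsg.Agent.F26.ModY3
import Cfsg.Agent.F26.Run
import Cfsg.Agent.Gold.Defs
import Cfsg.Agent.Trans.SylowIn
import Cfsg.Agent.LX.O6a

/-!
Groups with a 2-local subgroup of shape `2⁶:Sp₆(2)`: models and interfaces.

Letters on 64 points: 1 z, 2 w, 3 w3, 4 f3, 5 f2, 6 a (translations by 1, 2, 4, 32, 16, 8), 7 t, 8 u12,
9 u13, 10 s13, 11 s12, 12 d, 13 e, 14 u33, 15 s23; 16 e2, 17 e3, 18 e4, 19 n1, 20 n2, 21 n3, 22 s21,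
23 s32.  Subgroups of `MT`: 0 T, 1 A, 2 J, 3 Z, 4 V9, 5 F6, 6 W, 7 V6, 8 D, 9 P8, 10 L4, 11 A0, 12 E.
Letters on 512 points: 1 a, 2 d, 3 e, 4 u33, 5 s23, 6 e2, 7 e3, 8 e4, 9 x, 10 k, 11 k3, 12 y0.
-/

set_option autoImplicit false

namespace Cfsg.Lib.F26

open Subgroup Cfsg.Lib.Spor Cfsg.Lib.Spor.Bulk Cfsg.Lib.Spor.PK Cfsg.Lib.Spor.WF Cfsg.Lib.Gold
  Cfsg.Lib.Trans

universe u

abbrev P6 : Type := Equiv.Perm (Fin 64)
abbrev P9 : Type := Equiv.Perm (Fin 512)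

noncomputable abbrev tm : ℕ → P6 := MT.m
noncomputable abbrev xm : ℕ → P6 := MX.m
noncomputable abbrev ym : ℕ → P9 := MY.m

noncomputable abbrev ts (i : ℕ) : Subgroup P6 := sub tm (MT.W i)
noncomputable abbrev X0 : Subgroup P6 := sub xm ((List.range' 1 23).map fun l => [l])
noncomputable abbrev Xz : Subgroup P6 := sub xm ((List.range' 1 18).map fun l => [l])
noncomputable abbrev Lx : Subgroup P6 :=
  sub xm [[7], [12], [14], [19], [20], [21], [7, 12, 8], [12, 14, 13]]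
noncomputable abbrev L3 : Subgroup P6 := sub xm (MX.W 0)

noncomputable abbrev Th : Subgroup P9 := sub ym (MY.W 0)
noncomputable abbrev Sh : Subgroup P9 := sub ym (MY.W 1)
noncomputable abbrev Sh0 : Subgroup P9 := sub ym (MY.W 2)
noncomputable abbrev Qh : Subgroup P9 := sub ym (MY.W 3)
noncomputable abbrev Fh : Subgroup P9 := sub ym (MY.W 4)
noncomputable abbrev LR : Subgroup P9 := sub ym (MY.W 5)
noncomputable abbrev C0 : Subgroup P9 := sub ym (MC.W 0)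
noncomputable abbrev L0 : Subgroup P9 := sub ym (ML.W 0)
noncomputable abbrev Kh : Subgroup P9 := sub ym (MK.W 0)
noncomputable abbrev Yh : Subgroup P9 := sub ym (MW.W 0)
noncomputable abbrev Y0 : Subgroup P9 := sub ym [[3], [6], [7], [8], [5], [9, 1]]

theorem tm_eq {l : ℕ} (h : l < 16) : tm l = xm l := by interval_cases l <;> rfl
theorem MC_m : MC.m = ym := rfl
theorem ML_m : ML.m = ym := rfl
theorem MK_m : MK.m = ym := rfl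
theorem MW_m : MW.m = ym := rfl

/-- The symplectic form on six bits. -/
def be (x y : ℕ) : ℕ :=
  (Nat.mod (Nat.add (Nat.add (Nat.add (Nat.add (Nat.add (Nat.mul (Nat.mod x (nat_lit 2)) (Nat.div y (nat_lit 8)))
    (Nat.mul (Nat.mod (Nat.div x (nat_lit 2)) (nat_lit 2)) (Nat.div y (nat_lit 16))))
    (Nat.mul (Nat.mod (Nat.div x (nat_lit 4)) (nat_lit 2)) (Nat.div y (nat_lit 32))))
    (Nat.mul (Nat.mod (Nat.div x (nat_lit 8)) (nat_lit 2)) y))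
    (Nat.mul (Nat.mod (Nat.div x (nat_lit 16)) (nat_lit 2)) (Nat.div y (nat_lit 2))))
    (Nat.mul (Nat.mod (Nat.div x (nat_lit 32)) (nat_lit 2)) (Nat.div y (nat_lit 4)))) (nat_lit 2))

theorem be_eq (x y : ℕ) : be x y = (x % 2 * (y / 8) + x / 2 % 2 * (y / 16) + x / 4 % 2 * (y / 32) +
    x / 8 % 2 * y + x / 16 % 2 * (y / 2) + x / 32 % 2 * (y / 4)) % 2 := rfl

/-- The table of an affine map: translation part and six columns. -/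
def tb (g : ℕ → ℕ) : ℕ :=
  (Nat.add (Nat.add (Nat.add (Nat.add (Nat.add (Nat.add (g (nat_lit 0))
    (Nat.mul (nat_lit 64) (Nat.xor (g (nat_lit 1)) (g (nat_lit 0)))))
    (Nat.mul (nat_lit 4096) (Nat.xor (g (nat_lit 2)) (g (nat_lit 0)))))
    (Nat.mul (nat_lit 262144) (Nat.xor (g (nat_lit 4)) (g (nat_lit 0)))))
    (Nat.mul (nat_lit 16777216) (Nat.xor (g (nat_lit 8)) (g (nat_lit 0)))))
    (Nat.mul (nat_lit 1073741824) (Nat.xor (g (nat_lit 16)) (g (nat_lit 0)))))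
    (Nat.mul (nat_lit 68719476736) (Nat.xor (g (nat_lit 32)) (g (nat_lit 0)))))

theorem tb_eq (g : ℕ → ℕ) : tb g = g 0 + 64 * (g 1 ^^^ g 0) + 64 ^ 2 * (g 2 ^^^ g 0) +
    64 ^ 3 * (g 4 ^^^ g 0) + 64 ^ 4 * (g 8 ^^^ g 0) + 64 ^ 5 * (g 16 ^^^ g 0) +
    64 ^ 6 * (g 32 ^^^ g 0) := rfl

/-- The linear part of a table. -/
def a6 (c v : ℕ) : ℕ :=
  (Nat.xor (Nat.xor (Nat.xor (Nat.xor (Nat.xor (Nat.mul (Nat.mod v (nat_lit 2)) (Nat.mod (Nat.div c (nat_lit 64)) (nat_lit 64)))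
    (Nat.mul (Nat.mod (Nat.div v (nat_lit 2)) (nat_lit 2)) (Nat.mod (Nat.div c (nat_lit 4096)) (nat_lit 64))))
    (Nat.mul (Nat.mod (Nat.div v (nat_lit 4)) (nat_lit 2)) (Nat.mod (Nat.div c (nat_lit 262144)) (nat_lit 64))))
    (Nat.mul (Nat.mod (Nat.div v (nat_lit 8)) (nat_lit 2)) (Nat.mod (Nat.div c (nat_lit 16777216)) (nat_lit 64))))
    (Nat.mul (Nat.mod (Nat.div v (nat_lit 16)) (nat_lit 2)) (Nat.mod (Nat.div c (nat_lit 1073741824)) (nat_lit 64))))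
    (Nat.mul (Nat.mod (Nat.div v (nat_lit 32)) (nat_lit 2)) (Nat.mod (Nat.div c (nat_lit 68719476736)) (nat_lit 64))))

theorem a6_eq (c v : ℕ) : a6 c v = v % 2 * (c / 64 % 64) ^^^ v / 2 % 2 * (c / 64 ^ 2 % 64) ^^^
    v / 4 % 2 * (c / 64 ^ 3 % 64) ^^^ v / 8 % 2 * (c / 64 ^ 4 % 64) ^^^
    v / 16 % 2 * (c / 64 ^ 5 % 64) ^^^ v / 32 % 2 * (c / 64 ^ 6 % 64) := rfl

/-- The product of tables. -/
def m6 (c d : ℕ) : ℕ :=
  (Nat.add (Nat.add (Nat.add (Nat.add (Nat.add (Nat.add (Nat.xor (a6 c (Nat.mod d (nat_lit 64))) (Nat.mod c (nat_lit 64)))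
    (Nat.mul (nat_lit 64) (a6 c (Nat.mod (Nat.div d (nat_lit 64)) (nat_lit 64)))))
    (Nat.mul (nat_lit 4096) (a6 c (Nat.mod (Nat.div d (nat_lit 4096)) (nat_lit 64)))))
    (Nat.mul (nat_lit 262144) (a6 c (Nat.mod (Nat.div d (nat_lit 262144)) (nat_lit 64)))))
    (Nat.mul (nat_lit 16777216) (a6 c (Nat.mod (Nat.div d (nat_lit 16777216)) (nat_lit 64)))))
    (Nat.mul (nat_lit 1073741824) (a6 c (Nat.mod (Nat.div d (nat_lit 1073741824)) (nat_lit 64)))))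
    (Nat.mul (nat_lit 68719476736) (a6 c (Nat.mod (Nat.div d (nat_lit 68719476736)) (nat_lit 64)))))

/-- The class of an involution with table `c`. -/
def clsN (c : ℕ) : ℕ :=
  let f := (List.range 64).countP fun v => a6 c v == v
  let i := if (List.range 64).any fun v => (a6 c v ^^^ v) == c % 64 then 0 else 1
  if f = 64 then 0 else if f = 32 then 1 + i else if f = 16 then
    (if [1, 2, 4, 8, 16, 32].all fun v => be v (a6 c v) == 0 then 3 else 5) + i else 7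

noncomputable def cls (g : ℕ → ℕ) : ℕ := forc (tb g) clsN

/-- Representatives of the classes of involutions. -/
def rep {G : Type*} [Group G] (g : ℕ → G) : ℕ → G
  | 0 => g 1
  | 1 => g 7
  | 2 => g 7 * g 2
  | 3 => g 8
  | 4 => g 8 * g 3
  | 5 => g 7 * g 8
  | 6 => g 7 * g 8 * g 3
  | _ => g 12 * g 9

def nb (v : ℕ) : ℕ := v / 2 % 4 + 4 * (v / 32 % 2) + 8 * (v / 16 % 2)

/-- Coordinates of `J / ⟨z⟩`. -/
def kap (g : ℕ → ℕ) : ℕ :=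
  nb (g 0) + 16 * nb (g 8 ^^^ g 0) + 256 * (((g 8 ^^^ g 0) + (g 8 ^^^ g 0) / 2 * ((g 8 ^^^ g 0) / 16) +
    (g 8 ^^^ g 0) / 4 * ((g 8 ^^^ g 0) / 32)) % 2)

/-- The quadratic form on nine bits. -/
def qn (v : ℕ) : ℕ :=
  (Nat.mod (Nat.add (Nat.add (Nat.add (Nat.mul v (Nat.div v (nat_lit 128)))
    (Nat.mul (Nat.div v (nat_lit 2)) (Nat.div v (nat_lit 64))))
    (Nat.mul (Nat.div v (nat_lit 4)) (Nat.div v (nat_lit 32))))
    (Nat.mul (Nat.div v (nat_lit 8)) (Nat.div v (nat_lit 16)))) (nat_lit 2))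

theorem qn_eq (v : ℕ) :
    qn v = (v * (v / 128) + v / 2 * (v / 64) + v / 4 * (v / 32) + v / 8 * (v / 16)) % 2 := rfl

def bn (u v : ℕ) : ℕ := Nat.mod (Nat.add (Nat.add (qn (Nat.xor u v)) (qn u)) (qn v)) (nat_lit 2)

theorem bn_eq (u v : ℕ) : bn u v = (qn (u ^^^ v) + qn u + qn v) % 2 := rfl

/-- The class of the involutions with coordinates `v`; `8` for elements of order four. -/
def cl9 (v : ℕ) : ℕ :=
  if qn v = 1 then 8 else if v / 16 % 16 = 0 then (if v < 256 then 0 else if v = 256 then 1 else 2)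
  else (if (v / 256 + v / 16 * (v / 128) + v / 32 * (v / 64)) % 2 = 0 then 3 else 5) +
    if v % 16 = 0 ∨ v % 16 = v / 16 % 16 then 0 else 1

/-- The orbit of `1` under `W(E₆)`. -/
def oz (v : ℕ) : Bool := v != 0 && (cl9 v == 0 || cl9 v == 4 || cl9 v == 5)

/-- Additive permutations. -/
def Ad (g : P9) : Prop := ∀ u < 512, ∀ v < 512, fn g (u ^^^ v) = fn g u ^^^ fn g v

/-- The packed matrix. -/
def pk (g : ℕ → ℕ) : ℕ :=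
  (Nat.add (Nat.add (Nat.add (Nat.add (Nat.add (Nat.add (Nat.add (Nat.add (g (nat_lit 1))
    (Nat.mul (nat_lit 512) (g (nat_lit 2))))
    (Nat.mul (nat_lit 262144) (g (nat_lit 4))))
    (Nat.mul (nat_lit 134217728) (g (nat_lit 8))))
    (Nat.mul (nat_lit 68719476736) (g (nat_lit 16))))
    (Nat.mul (nat_lit 35184372088832) (g (nat_lit 32))))
    (Nat.mul (nat_lit 18014398509481984) (g (nat_lit 64))))
    (Nat.mul (nat_lit 9223372036854775808) (g (nat_lit 128))))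
    (Nat.mul (nat_lit 4722366482869645213696) (g (nat_lit 256))))

theorem pk_eq (g : ℕ → ℕ) : pk g = g 1 + 512 * g 2 + 512 ^ 2 * g 4 + 512 ^ 3 * g 8 + 512 ^ 4 * g 16 +
    512 ^ 5 * g 32 + 512 ^ 6 * g 64 + 512 ^ 7 * g 128 + 512 ^ 8 * g 256 := rfl

/-- Apply a packed matrix. -/
def ap (c v : ℕ) : ℕ :=
  (Nat.xor (Nat.xor (Nat.xor (Nat.xor (Nat.xor (Nat.xor (Nat.xor (Nat.xor (Nat.mul (Nat.mod v (nat_lit 2)) (Nat.mod c (nat_lit 512)))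
    (Nat.mul (Nat.mod (Nat.div v (nat_lit 2)) (nat_lit 2)) (Nat.mod (Nat.div c (nat_lit 512)) (nat_lit 512))))
    (Nat.mul (Nat.mod (Nat.div v (nat_lit 4)) (nat_lit 2)) (Nat.mod (Nat.div c (nat_lit 262144)) (nat_lit 512))))
    (Nat.mul (Nat.mod (Nat.div v (nat_lit 8)) (nat_lit 2)) (Nat.mod (Nat.div c (nat_lit 134217728)) (nat_lit 512))))
    (Nat.mul (Nat.mod (Nat.div v (nat_lit 16)) (nat_lit 2)) (Nat.mod (Nat.div c (nat_lit 68719476736)) (nat_lit 512))))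
    (Nat.mul (Nat.mod (Nat.div v (nat_lit 32)) (nat_lit 2)) (Nat.mod (Nat.div c (nat_lit 35184372088832)) (nat_lit 512))))
    (Nat.mul (Nat.mod (Nat.div v (nat_lit 64)) (nat_lit 2)) (Nat.mod (Nat.div c (nat_lit 18014398509481984)) (nat_lit 512))))
    (Nat.mul (Nat.mod (Nat.div v (nat_lit 128)) (nat_lit 2)) (Nat.mod (Nat.div c (nat_lit 9223372036854775808)) (nat_lit 512))))
    (Nat.mul (Nat.mod (Nat.div v (nat_lit 256)) (nat_lit 2)) (Nat.mod (Nat.div c (nat_lit 4722366482869645213696)) (nat_lit 512))))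

theorem ap_eq (c v : ℕ) : ap c v = v % 2 * (c % 512) ^^^ v / 2 % 2 * (c / 512 % 512) ^^^
    v / 4 % 2 * (c / 512 ^ 2 % 512) ^^^ v / 8 % 2 * (c / 512 ^ 3 % 512) ^^^
    v / 16 % 2 * (c / 512 ^ 4 % 512) ^^^ v / 32 % 2 * (c / 512 ^ 5 % 512) ^^^
    v / 64 % 2 * (c / 512 ^ 6 % 512) ^^^ v / 128 % 2 * (c / 512 ^ 7 % 512) ^^^
    v / 256 % 2 * (c / 512 ^ 8 % 512) := rfl

/-- The product of packed matrices. -/
def mm (c d : ℕ) : ℕ :=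
  (Nat.add (Nat.add (Nat.add (Nat.add (Nat.add (Nat.add (Nat.add (Nat.add (ap c (Nat.mod d (nat_lit 512)))
    (Nat.mul (nat_lit 512) (ap c (Nat.mod (Nat.div d (nat_lit 512)) (nat_lit 512)))))
    (Nat.mul (nat_lit 262144) (ap c (Nat.mod (Nat.div d (nat_lit 262144)) (nat_lit 512)))))
    (Nat.mul (nat_lit 134217728) (ap c (Nat.mod (Nat.div d (nat_lit 134217728)) (nat_lit 512)))))
    (Nat.mul (nat_lit 68719476736) (ap c (Nat.mod (Nat.div d (nat_lit 68719476736)) (nat_lit 512)))))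
    (Nat.mul (nat_lit 35184372088832) (ap c (Nat.mod (Nat.div d (nat_lit 35184372088832)) (nat_lit 512)))))
    (Nat.mul (nat_lit 18014398509481984) (ap c (Nat.mod (Nat.div d (nat_lit 18014398509481984)) (nat_lit 512)))))
    (Nat.mul (nat_lit 9223372036854775808) (ap c (Nat.mod (Nat.div d (nat_lit 9223372036854775808)) (nat_lit 512)))))
    (Nat.mul (nat_lit 4722366482869645213696) (ap c (Nat.mod (Nat.div d (nat_lit 4722366482869645213696)) (nat_lit 512)))))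

theorem mm_eq (c d : ℕ) : mm c d = pk fun v => ap c (d / 512 ^ v.log2 % 512) := by
  rw [pk_eq, show d / 512 ^ Nat.log2 1 = d from Nat.div_one d]; rfl

/-- The matrices of `Sh`: the first 8 form `LR`, the first 32 form `Th`. -/
def ShL : List ℕ :=
  [0x100401004010040100401, 0x100405804010040180401, 0x100501404010050140401, 0x100505c040100501c0401,
    0x100c81004010048100401, 0x100c85804010048180401, 0x100d81404010058140401,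
    0x100d85c040100581c0401, 0x100441104411040100401, 0x100445984411040180401,
    0x100551544411050140401, 0x100555dc44110501c0401, 0x100601006010060100601,
    0x100605c060100601c0601, 0x100661106611060100601, 0x100665dc66110601c0601,
    0x100781406010078140601, 0x100785806010078180601, 0x1007f9546611078140601,
    0x1007fd986611078180601, 0x100cc9104411048100401, 0x100ccd984411048180401,
    0x100dd9544411058140401, 0x100ddddc44110581c0401, 0x100e81006010068100601,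
    0x100e85c060100681c0601, 0x100ee9106611068100601, 0x100eeddc66110681c0601,
    0x100f01406010070140601, 0x100f05806010070180601, 0x100f71546611070140601,
    0x100f75986611070180601, 0x100491c44010158580401, 0x100495444010158500401,
    0x1004a1026210268102401, 0x1004a1c66210268582401, 0x1004b5466210b78502401,
    0x1004b5826210b78182401, 0x1004d9d844111485c0401, 0x1004dd504411148540401,
    0x1004e9126411248102601, 0x1004e9da64112485c2601, 0x1004fd526411b48542601,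
    0x1004fd9a6411b48182601, 0x1005918440101485c0401, 0x100595044010148540401,
    0x1005a94262102f0142401, 0x1005a98662102f05c2401, 0x1005bd066210be0542401,
    0x1005bdc26210be01c2401, 0x1005c99c4411158580401, 0x1005cd144411158500401,
    0x1005e5166411bd8502601, 0x1005e5de6411bd81c2601, 0x1005f15664112d8142601,
    0x1005f19e64112d8582601, 0x1006998460101f05c0601, 0x10069d4460101f0500601,
    0x1006a1024210248102601, 0x1006a18642102485c2601, 0x1006bd464210bd0502601,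
    0x1006bdc24210bd01c2601, 0x1006c9124611268102401, 0x1006c99e4611268582401,
    0x1006d5524611be8542401, 0x1006d5de4611be81c2401, 0x1006f19c66111e8580601,
    0x1006f55066111e8540601, 0x100719c460101e8580601, 0x10071d0460101e8540601,
    0x1007294242102d8142601, 0x100729c642102d8582601, 0x100735064210b40542601,
    0x100735824210b40182601, 0x100745164611b70502401, 0x1007459a4611b70182401,
    0x1007595646112f0142401, 0x100759da46112f05c2401, 0x100769d866111f05c0601,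
    0x10076d1466111f0500601, 0x100c11c44010150580401, 0x100c15444010150500401,
    0x100c21026210260102401, 0x100c21c66210260582401, 0x100c35466210b70502401,
    0x100c35826210b70182401, 0x100c51d844111405c0401, 0x100c55504411140540401,
    0x100c61126411240102601, 0x100c61da64112405c2601, 0x100c75526411b40542601,
    0x100c759a6411b40182601, 0x100d118440101405c0401, 0x100d15044010140540401,
    0x100d294262102f8142401, 0x100d298662102f85c2401, 0x100d3d066210be8542401,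
    0x100d3dc26210be81c2401, 0x100d419c4411150580401, 0x100d45144411150500401,
    0x100d6d166411bd0502601, 0x100d6dde6411bd01c2601, 0x100d795664112d0142601,
    0x100d799e64112d0582601, 0x100e198460101f85c0601, 0x100e1d4460101f8500601,
    0x100e21024210240102601, 0x100e218642102405c2601, 0x100e3d464210bd8502601,
    0x100e3dc24210bd81c2601, 0x100e41124611260102401, 0x100e419e4611260582401,
    0x100e5d524611be0542401, 0x100e5dde4611be01c2401, 0x100e799c66111e0580601,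
    0x100e7d5066111e0540601, 0x100f99c460101e0580601, 0x100f9d0460101e0540601,
    0x100fa94242102d0142601, 0x100fa9c642102d0582601, 0x100fb5064210b48542601,
    0x100fb5824210b48182601, 0x100fcd164611b78502401, 0x100fcd9a4611b78182401,
    0x100fd15646112f8142401, 0x100fd1da46112f85c2401, 0x100fe1d866111f85c0601,
    0x100fe51466111f8500601]

/-- `x` has 2-power order. -/
def Tw {G : Type*} [Group G] (x : G) : Prop := ∃ k : ℕ, x ^ 2 ^ k = 1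

/-- The largest normal subgroup of odd order of a subgroup. -/
abbrev Od {G : Type*} [Group G] (K : Subgroup G) : Subgroup G := (oddCore K).map K.subtype

/-- Structure of the model of `2⁶:Sp₆(2)`. -/
structure PX : Prop where
  mem : ∀ l, xm l ∈ X0
  ts_le : ∀ i, ts i ≤ ts 0
  T_le : ts 0 ≤ Xz
  Xz_le : Xz ≤ X0
  aff : ∀ y ∈ X0, ∀ v < 64, fn y v = a6 (tb (fn y)) v ^^^ fn y 0
  symp : ∀ y ∈ X0, ∀ u < 64, ∀ v < 64, be (fn y u ^^^ fn y 0) (fn y v ^^^ fn y 0) = be u v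
  tb_mul : ∀ x ∈ X0, ∀ y ∈ X0, tb (fn (x * y)) = m6 (tb (fn x)) (tb (fn y))
  tb_inj : ∀ x ∈ X0, ∀ y ∈ X0, tb (fn x) = tb (fn y) → x = y
  mem_A : ∀ x : P6, x ∈ ts 1 ↔ ∃ v < 64, ∀ p < 64, fn x p = p ^^^ v
  L_fix : ∀ y ∈ Lx, fn y 0 = 0
  sup : ts 1 ⊔ Lx = X0
  card_L : Nat.card Lx = 1451520
  syl : IsSylowIn 2 (ts 0) X0
  nA : X0 ≤ Ns (ts 1)
  cA : ∀ y ∈ X0, y ∈ Cs (ts 1) → y ∈ ts 1
  cz : ∀ y ∈ X0, y * tm 1 = tm 1 * y → y ∈ Xz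
  nJ : Xz ≤ Ns (ts 2)
  cJ : ∀ y ∈ X0, y ∈ Cs (ts 2) → y ∈ ts 3
  kJ : ∀ y ∈ X0, (∀ j ∈ ts 2, y * j * y⁻¹ = j ∨ y * j * y⁻¹ = j * tm 1) → y ∈ ts 2

/-- Simplicity of the linear part. -/
structure PL : Prop where
  iso : ∀ (F : Type) [Field F] [Fintype F], Fintype.card F = 2 → Nonempty (PSp 3 F ≃* Lx)
  simp : ∀ K : Subgroup P6, K ≤ X0 → X0 ≤ Ns K → ts 1 ≤ K → K = ts 1 ∨ K = X0

/-- Classes of involutions of the model. -/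
structure PC : Prop where
  conj : ∀ x ∈ ts 0, x * x = 1 → x ≠ 1 → ∃ y ∈ X0, y * x * y⁻¹ = rep tm (cls (fn x))
  lt : ∀ x : P6, cls (fn x) < 8
  cA : ∀ x ∈ ts 0, x * x = 1 → (cls (fn x) = 0 ↔ x ∈ ts 1)
  cJ : ∀ j ∈ ts 2, j * j = 1 → cls (fn j) = cl9 (kap (fn j))
  pat1 : ∀ x ∈ ts 0, x ∉ ts 2 → x * x = 1 → cls (fn x) = 1 → cls (fn (x * tm 1)) ≠ 1
  pat2 : ∀ x ∈ ts 0, x ∉ ts 2 → x * x = 1 → x * tm 7 = tm 7 * x → cls (fn x) ∈ [0, 4, 5] →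
    cls (fn (x * tm 1)) ∈ [0, 4, 5] → cls (fn (x * tm 7)) = 1 ∨ cls (fn (x * tm 7 * tm 1)) = 1
  cD : ∀ x ∈ ts 8, x ∉ ts 4 → x * x = 1 → cls (fn x) ∈ [0, 2, 4, 6]

/-- Structure of the model of `W(E₆)`. -/
structure PY : Prop where
  mem : ∀ l, ym l ∈ Yh
  Y_le : ∀ K : Subgroup P9, C0 ≤ K → ym 9 ∈ K → Yh ≤ K
  Y_le' : ∀ K : Subgroup P9, C0 ≤ K → ym 12 ∈ K → Yh ≤ K
  ad : ∀ g ∈ Yh, Ad g
  fix : ∀ g ∈ Yh, fn g 256 = 256
  q : ∀ g ∈ Yh, ∀ v < 512, qn (fn g v) = qn v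
  C0_le : C0 ≤ Yh
  K_le : Kh ≤ Yh
  S_le : Sh ≤ Kh
  T_le : Th ≤ Sh
  T_le' : Th ≤ C0
  L_le : L0 ≤ C0
  L_le' : L0 ≤ Y0
  S0_le : Sh0 ≤ Y0
  Y0_le : Y0 ≤ Yh
  ca : ∀ g ∈ C0, g * ym 1 = ym 1 * g
  cd : ∀ g ∈ Kh, g * ym 2 = ym 2 * g
  C0_or : ∀ g ∈ C0, g ∈ L0 ∨ ym 1 * g ∈ L0
  S_or : ∀ g ∈ Sh, g ∈ Sh0 ∨ ym 1 * g ∈ Sh0
  Y_or : ∀ g ∈ Yh, g ∈ Y0 ∨ ym 1 * g ∈ Y0
  card_Y : Nat.card Yh = 51840
  card_C : Nat.card C0 = 1440
  card_K : Nat.card Kh = 1152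
  card_S : Nat.card Sh = 128
  card_T : Nat.card Th = 32
  card_LR : Nat.card LR = 8
  ap_pk : ∀ g, Ad g → ∀ v < 512, fn g v = ap (pk (fn g)) v
  pk_mul : ∀ g k, Ad g → Ad k → pk (fn (g * k)) = mm (pk (fn g)) (pk (fn k))
  pk_inj : ∀ g k, Ad g → Ad k → pk (fn g) = pk (fn k) → g = k
  mem_S : ∀ g, Ad g → (g ∈ Sh ↔ pk (fn g) ∈ ShL)
  mem_T : ∀ g, Ad g → (g ∈ Th ↔ pk (fn g) ∈ ShL.take 32)
  mem_LR : ∀ g, Ad g → (g ∈ LR ↔ pk (fn g) ∈ ShL.take 8)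
  card_le : ∀ E : Subgroup P9, E ≤ Yh → ∀ l : List ℕ, (∀ g ∈ E, pk (fn g) ∈ l) → Nat.card E ≤ l.length
  pk_m : (List.range 13).map (fun l => pk (fn (ym l))) = [0x100401004010040100401,
    0x100441104411040100401, 0x100c81004010048100401, 0x100501404010050140401,
    0x100405804010040180401, 0x100601006010060100601, 0x100401014050040101405,
    0x100f01406010070140601, 0x100403004030040300403, 0x100373657267431345616,
    0x100735824210b40182601, 0x100404120410c45024111, 0x100734868210b404c2a01]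
  faith : ∀ g ∈ Sh, (∀ v < 512, fn g v = v ∨ fn g v = v ^^^ 256) → g = 1

/-- Orbits, classes and normal subgroups of the model of `W(E₆)`. -/
structure PW : Prop where
  cl : ∀ g ∈ C0, ∀ v < 512, cl9 (fn g v) = cl9 v
  oz : ∀ g ∈ Yh, ∀ v < 512, oz (fn g v) = oz v
  tr : ∀ v < 512, F26.oz v = true → ∃ g ∈ Y0, fn g 1 = v
  inv : ∀ s ∈ Sh, s * s = 1 → s ≠ 1 → ∃ y ∈ Yh, y * s * y⁻¹ ∈ [ym 1, ym 2, ym 3, ym 1 * ym 3 * ym 5]
  iso : Nonempty (Yh ≃* LX.O6.W6)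
  nrm : ∀ K : Subgroup P9, K ≤ Yh → Y0 ≤ Ns K → K = ⊥ ∨ Y0 ≤ K

/-- A chart: `N(A)` maps onto the model with kernel of odd order. -/
structure Ch (G : Type u) [Group G] where
  π : G → P6
  g : ℕ → G
  emb : Emb tm g
  g_mem : ∀ l, g l ∈ Ns (sub g (MT.W 1))
  π_g : ∀ l, π (g l) = tm l
  π_mul : ∀ x ∈ Ns (sub g (MT.W 1)), ∀ y ∈ Ns (sub g (MT.W 1)), π (x * y) = π x * π y
  π_mem : ∀ x ∈ Ns (sub g (MT.W 1)), π x ∈ X0
  π_surj : ∀ y ∈ X0, ∃ x ∈ Ns (sub g (MT.W 1)), π x = y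
  odd : ∀ x ∈ Ns (sub g (MT.W 1)), π x = 1 → Odd (orderOf x)
  cent : ∀ x ∈ Ns (sub g (MT.W 1)), π x = 1 → x ∈ Cs (sub g (MT.W 1))

variable {G : Type u} [Group G]

namespace Ch

variable (c : Ch G)

abbrev s (i : ℕ) : Subgroup G := sub c.g (MT.W i)
abbrev T := c.s 0
abbrev A := c.s 1
abbrev J := c.s 2
abbrev Z := c.s 3
abbrev V9 := c.s 4
abbrev F6 := c.s 5
abbrev W := c.s 6
abbrev V6 := c.s 7
abbrev D := c.s 8
abbrev P8 := c.s 9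
abbrev L4 := c.s 10
abbrev A0 := c.s 11
abbrev z := c.g 1
abbrev w := c.g 2
abbrev a := c.g 6
abbrev t := c.g 7
abbrev d := c.g 12
abbrev e := c.g 13
abbrev N := Ns c.A
abbrev M := Ns c.J
abbrev H := C1 c.z
def κ (x : G) : ℕ := kap (fn (c.π x))
noncomputable def cl (x : G) : ℕ := cls (fn (c.π x))
abbrev r (i : ℕ) : G := rep c.g i

/-- Basic facts on `N(A)`. -/
structure P1 : Prop where
  le_T : ∀ i, c.s i ≤ c.T
  T_le : c.T ≤ c.N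
  π_one : c.π 1 = 1
  π_inv : ∀ x ∈ c.N, c.π x⁻¹ = (c.π x)⁻¹
  mem_s : ∀ i, ∀ x ∈ c.T, x ∈ c.s i ↔ c.π x ∈ ts i
  surj_s : ∀ i, ∀ y ∈ ts i, ∃ x ∈ c.s i, c.π x = y
  inj : ∀ x ∈ c.T, ∀ y ∈ c.T, c.π x = c.π y → x = y
  card : ∀ i < 13, Nat.card (c.s i) =
    [32768, 64, 1024, 4, 512, 64, 8, 64, 4096, 256, 16, 32, 512].getD i 0
  p2 : IsPGroup 2 c.T
  syl : IsSylowIn 2 c.T c.N
  lift : ∀ P : Subgroup G, P ≤ c.T → ∀ y ∈ X0, (∀ x ∈ P, y * c.π x * y⁻¹ ∈ ts 0) →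
    ∃ n ∈ c.N, c.π n = y ∧ ∀ x ∈ P, n * x * n⁻¹ ∈ c.T
  two : ∀ x ∈ c.N, Tw x → c.π x ∈ ts 1 → x ∈ c.A
  ker : ∀ P : Subgroup G, P ≤ c.T → ∀ x ∈ c.N, x ∈ Ns P → c.π x = 1 → x ∈ Cs P
  conj : ∀ x ∈ c.T, x * x = 1 → x ≠ 1 → ∃ n ∈ c.N, n * x * n⁻¹ = c.r (c.cl x)
  conjA : ∀ x ∈ c.A, x ≠ 1 → ∃ n ∈ c.N, n * c.z * n⁻¹ = x

/-- Basic facts on `J`. -/
structure P2 : Prop where
  gg : ∀ l, c.g l * c.g l = 1
  z1 : c.z ≠ 1
  t1 : c.t ≠ 1 ∧ c.t ≠ c.z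
  zT : ∀ x ∈ c.T, x * c.z = c.z * x
  nJ : c.T ≤ c.M
  at' : c.a * c.t * c.a⁻¹ = c.t * c.z
  mem_Z : ∀ x, x ∈ c.Z ↔ x = 1 ∨ x = c.z ∨ x = c.t ∨ x = c.t * c.z
  Z_le : c.Z ≤ c.J
  cZ : ∀ j ∈ c.J, j ∈ c.Z ↔ j ∈ Cs c.J
  κ_lt : ∀ x, c.κ x < 512
  κ_mul : ∀ j ∈ c.J, ∀ k ∈ c.J, c.κ (j * k) = c.κ j ^^^ c.κ k
  κ_inv : ∀ j ∈ c.J, c.κ j⁻¹ = c.κ j
  κ_eq : ∀ j ∈ c.J, ∀ k ∈ c.J, c.κ j = c.κ k ↔ k = j ∨ k = j * c.z
  κ_surj : ∀ v < 512, ∃ j ∈ c.J, c.κ j = v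
  κ_g : c.κ 1 = 0 ∧ [1, 2, 3, 4, 5, 8, 9, 10, 11, 7].map (fun l => c.κ (c.g l)) =
    [0, 1, 2, 4, 8, 16, 32, 64, 128, 256]
  κ_Z : ∀ j ∈ c.J, j ∈ c.Z ↔ c.κ j = 0 ∨ c.κ j = 256
  κ_A : ∀ j ∈ c.J, j ∈ c.A ↔ c.κ j < 16
  κ_F : ∀ j ∈ c.J, j ∈ c.F6 ↔ c.κ j % 16 < 4 ∧ c.κ j / 16 % 16 < 4
  κ_P : ∀ j ∈ c.J, j ∈ c.P8 ↔ c.κ j % 16 < 8 ∧ c.κ j / 16 % 16 < 8
  sq : ∀ j ∈ c.J, j * j = 1 ↔ qn (c.κ j) = 0
  sq' : ∀ j ∈ c.J, j * j = 1 ∨ j * j = c.z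
  cm : ∀ j ∈ c.J, ∀ k ∈ c.J, j * k = k * j ↔ bn (c.κ j) (c.κ k) = 0
  cm' : ∀ j ∈ c.J, ∀ k ∈ c.J, j * k * j⁻¹ = k ∨ j * k * j⁻¹ = k * c.z
  mv : ∀ y ∈ c.J, y ∉ c.Z → ∃ j ∈ c.J, j * y * j⁻¹ = y * c.z
  cc : ∀ y ∈ c.J, ∀ x ∈ c.J, (∀ j ∈ c.J, j * y = y * j → j * x = x * j) → x ∈ c.Z ∨ x * y ∈ c.Z
  ab : ∀ B : Subgroup G, B ≤ c.J → (∀ x ∈ B, ∀ y ∈ B, x * y = y * x) → Nat.card B ≤ 64
  aJ : ∀ j ∈ c.J, c.a * j * (c.a * j) = 1 → c.a * j ∈ c.A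
  genA : ∀ m : G, (∀ x ∈ c.A, x ∉ c.V9 → x ∉ c.J → m * x * m⁻¹ ∈ c.A) → m ∈ c.N
  V9 : ∀ x ∈ c.V9, x * x = 1 ∧ ∀ y ∈ c.V9, x * y = y * x
  A : ∀ x ∈ c.A, x * x = 1 ∧ ∀ y ∈ c.A, x * y = y * x
  F_le : c.F6 ≤ c.V9 ∧ c.F6 ≤ c.J ∧ c.Z ≤ c.F6 ∧ c.e ∈ c.V9 ∧ c.e ∉ c.J ∧ c.d ∈ c.V9 ∧ c.d ∉ c.J
  cF : ∀ j ∈ c.J, j ∈ Cs c.F6 → j ∈ c.F6
  cl : ∀ j ∈ c.J, j * j = 1 → c.cl j = cl9 (c.κ j)

end Ch

/-- A chart with the basic facts. -/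
structure Cb (G : Type u) [Group G] extends Ch G where
  px : PX
  pl : PL
  pc : PC
  py : PY
  pw : PW
  p1 : toCh.P1
  p2 : toCh.P2

/-- `C(J) = Z(J) O`. -/
structure Cb.Co (c : Cb G) (O : Subgroup G) : Prop where
  O_odd : Odd (Nat.card O)
  O_cent : O ≤ Cs c.J
  O_norm : c.M ≤ Ns O
  O_sup : ∀ x ∈ Cs c.J, ∃ y ∈ c.Z, ∃ o ∈ O, x = y * o

/-- The action of `N(J)` on `J / ⟨z⟩`. -/
structure Rh (G : Type u) [Group G] extends Cb G where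
  O : Subgroup G
  co : toCb.Co O
  ρ : G → P9
  ρ_mul : ∀ x ∈ toCh.M, ∀ y ∈ toCh.M, ρ (x * y) = ρ x * ρ y
  ρ_κ : ∀ m ∈ toCh.M, ∀ j ∈ toCh.J, fn (ρ m) (toCh.κ j) = toCh.κ (m * j * m⁻¹)

namespace Rh

variable (c : Rh G)

theorem ρ_one : c.ρ 1 = 1 := by simpa using c.ρ_mul 1 (one_mem _) 1 (one_mem _)

theorem ρ_inv {x : G} (h : x ∈ c.M) : c.ρ x⁻¹ = (c.ρ x)⁻¹ :=
  eq_inv_of_mul_eq_one_left (by rw [← c.ρ_mul _ (inv_mem h) _ h, inv_mul_cancel, c.ρ_one])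

/-- The image of `K ⊓ N(J)`. -/
def im (K : Subgroup G) : Subgroup P9 where
  carrier := {s | ∃ m ∈ K, m ∈ c.M ∧ c.ρ m = s}
  one_mem' := ⟨1, one_mem _, one_mem _, c.ρ_one⟩
  mul_mem' := by
    rintro _ _ ⟨x, h1, h2, rfl⟩ ⟨y, h3, h4, rfl⟩
    exact ⟨_, mul_mem h1 h3, mul_mem h2 h4, c.ρ_mul _ h2 _ h4⟩
  inv_mem' := by
    rintro _ ⟨x, h1, h2, rfl⟩
    exact ⟨_, inv_mem h1, inv_mem h2, c.ρ_inv h2⟩

theorem mem_im {K : Subgroup G} {s : P9} : s ∈ c.im K ↔ ∃ m ∈ K, m ∈ c.M ∧ c.ρ m = s := Iff.rfl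

/-- Facts on `ρ`. -/
structure P3 : Prop where
  mz : ∀ m ∈ c.M, m * c.z = c.z * m
  mt : ∀ m ∈ c.M, m * c.t * m⁻¹ = c.t ∨ m * c.t * m⁻¹ = c.t * c.z
  nZ : c.M ≤ Ns c.Z
  ad : ∀ m ∈ c.M, Ad (c.ρ m)
  ρ_g : [6, 12, 13, 14, 15].map (fun l => c.ρ (c.g l)) = [1, 2, 3, 4, 5].map ym
  imT : c.im c.T = Th
  imN : c.im c.N = C0
  imL : L0 ≤ c.im (c.N ⊓ C1 c.t)
  ker : ∀ m ∈ c.M, c.ρ m = 1 ↔ ∃ j ∈ c.J, ∃ o ∈ c.O, m = j * o
  ker2 : ∀ m ∈ c.M, Tw m → c.ρ m = 1 → m ∈ c.J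
  card : ∀ E : Subgroup G, E ≤ c.M → IsPGroup 2 E →
    Nat.card E = Nat.card (c.im E) * Nat.card ↥(E ⊓ c.J)
  lk : ∀ x ∈ c.M, ∀ y ∈ c.M, Tw x → Tw y → c.ρ x = c.ρ y → ∃ o ∈ c.O, y⁻¹ * (o * x * o⁻¹) ∈ c.J
  cent : ∀ m ∈ c.M, c.ρ m * ym 1 = ym 1 * c.ρ m → ∃ n ∈ c.N, n ∈ c.M ∧ ∃ o ∈ c.O, m = n * o

end Rh

/-- Hypotheses on the image of `N(J)`. -/
structure HM (Mh M0 : Subgroup P9) : Prop where
  ad : ∀ g ∈ Mh, Ad g
  fix : ∀ g ∈ Mh, fn g 256 = 256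
  q : ∀ g ∈ Mh, ∀ v < 512, qn (fn g v) = qn v
  c0 : C0 ≤ Mh
  cent : ∀ g ∈ Mh, g * ym 1 = ym 1 * g → g ∈ C0
  le : M0 ≤ Mh
  l0 : L0 ≤ M0
  na : ym 1 ∉ M0
  idx : ∀ g ∈ Mh, ∀ k ∈ Mh, g ∉ M0 → k ∉ M0 → g * k ∈ M0

/-- A Sylow 2-subgroup of `N(J)`. -/
structure Sy (G : Type u) [Group G] extends Rh G where
  p3 : toRh.P3
  hm : HM (toRh.im ⊤) (toRh.im (C1 toCh.t))
  S : Subgroup G
  T_le : toCh.T ≤ S
  syl : IsSylowIn 2 S toCh.M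
  imS : toRh.im S ≤ Sh
  cs : (toRh.im ⊤ = C0 ∧ S = toCh.T) ∨ (toRh.im ⊤ = Yh ∧ toRh.im S = Sh)

namespace Sy

variable (c : Sy G)

/-- Weak closure of `J`. -/
def WC : Prop := ∀ g : G, (∀ j ∈ c.J, g * j * g⁻¹ ∈ c.S) → g * c.z * g⁻¹ ∈ c.Z → g ∈ c.M

/-- Sylow subgroups and the first non-fusions. -/
structure P5 : Prop where
  wc : c.WC
  zS : ∀ x ∈ c.S, x ∈ Cs c.S → x = 1 ∨ x = c.z
  syl : IsSylowIn 2 c.S ⊤
  wc2 : ∀ P : Subgroup G, IsPGroup 2 P → c.J ≤ P → P ≤ c.H → P ≤ c.M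
  tz : ¬ IsConj c.z c.t
  tu : ¬ IsConj c.t (c.r 2)

/-- The configuration of two commuting conjugates `z`, `y`: `E = C_{J_y}(z)`, `F = J ∩ J_y`. -/
structure Sym (y : G) (E F : Subgroup G) : Prop where
  yF : y ∈ F
  zF : c.z ∈ F
  ES : E ≤ c.S
  EJ : E ⊓ c.J = F
  card : Nat.card E = 512
  Fsq : ∀ f ∈ F, f * f = 1
  Esq : ∀ x ∈ E, x * x = 1 ∨ x * x = y
  Ecm : ∀ x ∈ E, ∀ x' ∈ E, x * x' * x⁻¹ = x' ∨ x * x' * x⁻¹ = x' * y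
  Ey : ∀ x ∈ E, x * y = y * x
  cm : ∀ x ∈ E, ∀ j ∈ c.J, j * y = y * j → x * j * x⁻¹ * j⁻¹ ∈ F
  ab : ∀ B : Subgroup G, B ≤ E → (∀ x ∈ B, ∀ y ∈ B, x * y = y * x) → Nat.card B ≤ 64
  tF : c.t ∈ F → IsConj c.t (c.t * y)

def SY : Prop := ∀ y ∈ c.J, y * y = 1 → y ∉ c.Z → IsConj c.z y → ∃ m ∈ c.M,
  ((∀ s ∈ c.S, s * y * s⁻¹ = y ∨ s * y * s⁻¹ = y * c.z) → m = 1) ∧ ∃ E F, c.Sym (m * y * m⁻¹) E F

/-- Fusion when `N(J)` induces `W(E₆)`. -/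
structure P6 : Prop extends c.P5 where
  uz : ¬ IsConj c.z (c.r 2)
  imY : c.im ⊤ = Yh
  imS : c.im c.S = Sh
  cJ : ∀ y ∈ c.J, y * y = 1 → y ∉ c.Z → ∃ m ∈ c.M,
    m * y * m⁻¹ = if oz (c.κ y) then c.w else c.r 2
  cz : ∀ i ∈ [0, 4, 5], ∃ g ∈ c.M ⊔ c.N, g * c.r i * g⁻¹ = c.z
  cu : ∀ i ∈ [2, 3, 6, 7], ∃ g ∈ c.M ⊔ c.N, g * c.r i * g⁻¹ = c.r 2
  into : ∀ x ∈ c.S, x ∉ c.J → x * x ∈ c.J → ∃ m ∈ c.M, ∃ j ∈ c.J,
    m * x * m⁻¹ ∈ [c.a * j, c.d * j, c.e * j, c.a * c.e * c.g 15 * j]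

/-- Strong closure of `J / Z`. -/
def SC : Prop := ∀ k ∈ c.H ⊓ Ns c.Z, ∀ y ∈ c.J, k * y * k⁻¹ ∈ c.S → k * y * k⁻¹ ∈ c.J

/-- The completed signalizer functor. -/
structure Sg (Θ : Subgroup G) : Prop where
  odd : Odd (Nat.card Θ)
  nN : c.N ≤ Ns Θ
  nH : c.H ≤ Ns Θ
  inf : Θ ⊓ c.H = Od c.H

end Sy

end Cfsg.Lib.F26
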